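import Groth.Prelude.Def_TwC
import Groth.Agent.Lib.ExtCentral
import Mathlib.GroupTheory.OrderOfElement

/-!
# Rigidity of extensions by torsion-free constant groups
-/

set_option autoImplicit false

universe u

open CategoryTheory CategoryTheory.Limits MonoidalCategory CartesianMonoidalCategory MonObj AlgebraicGeometry
open Groth.Agent.Lib.OverDescent Groth.Agent.Lib.BitorsExt

namespace Groth.Agent.Lib.ConstRigid

variable {S : Scheme.{u}} {Z : Type u}

/-- The component of a point of the constant scheme. -/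
noncomputable def idx (z : ↥(TwC.const S Z).left) : Z := ((sigmaMk fun _ : Z => S).symm z).1

lemma idx_ι (m : Z) (s : S) : idx (S := S) (Sigma.ι (fun _ : Z => S) m s) = m := by
  have : (sigmaMk fun _ : Z => S).symm (Sigma.ι (fun _ : Z => S) m s) = ⟨m, s⟩ := by
    rw [Homeomorph.symm_apply_eq, sigmaMk_mk]
  exact congrArg Sigma.fst this

lemma isLocallyConstant_idx : IsLocallyConstant (idx (S := S) (Z := Z)) := by
  have h : IsLocallyConstant (fun p : (_ : Z) × ↥S => p.1) := by
    rw [IsLocallyConstant.iff_exists_open]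
    rintro ⟨m, s⟩
    exact ⟨Set.range (Sigma.mk m), isOpen_range_sigmaMk, ⟨s, rfl⟩, by rintro _ ⟨t, rfl⟩; rfl⟩
  exact h.comp_continuous (sigmaMk fun _ : Z => S).symm.continuous

lemma eq_pt {T : Over S} (y : T ⟶ TwC.const S Z) (m : Z) (h : ∀ t, idx (y.left t) = m) :
    y = toUnit T ≫ TwC.pt S Z m := by
  have hr : Set.range y.left ⊆ Set.range (Sigma.ι (fun _ : Z => S) m) := by
    rintro _ ⟨t, rfl⟩
    obtain ⟨⟨m', s⟩, e⟩ := (sigmaMk fun _ : Z => S).surjective (y.left t)
    rw [sigmaMk_mk] at e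
    have := h t
    rw [← e, idx_ι] at this
    subst this
    exact ⟨s, e⟩
  let l := IsOpenImmersion.lift (Sigma.ι (fun _ : Z => S) m) y.left hr
  have hl : l ≫ Sigma.ι (fun _ : Z => S) m = y.left := IsOpenImmersion.lift_fac _ _ hr
  have hl' : l = T.hom := by
    have e := Over.w y
    rw [← hl, Category.assoc] at e
    rw [← e]
    simp
  ext
  rw [← hl, hl']
  rfl

lemma idx_toUnit_pt {T : Over S} (m : Z) (t : T.left) : idx ((toUnit T ≫ TwC.pt S Z m).left t) = m :=
  idx_ι m _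

variable [Group Z] {G : Over S} [GrpObj G] {eG : G ≅ TwC.const S Z} (hG : TwC.IsConstGrp Z G eG)
include hG

lemma pt_one : TwC.pt S Z 1 ≫ eG.inv = 1 := by
  have h1 := hG 1 1
  rw [_root_.mul_one] at h1
  exact mul_eq_left.mp h1

lemma pt_pow (m : Z) (n : ℕ) : (TwC.pt S Z m ≫ eG.inv) ^ n = TwC.pt S Z (m ^ n) ≫ eG.inv := by
  induction n with
  | zero => rw [pow_zero, pow_zero, pt_one hG]
  | succ n ih => rw [pow_succ, pow_succ, ih, hG]

/-- A homomorphism from a quasi-compact group to a torsion-free constant group over a field is trivial. -/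
theorem hom_eq_one (hZ : ∀ z : Z, IsOfFinOrder z → z = 1) {P : Over S} [GrpObj P]
    [CompactSpace ↥P.left] (c : P ⟶ G) (hc : ∀ {T : Over S} (a b : T ⟶ P), (a * b) ≫ c = (a ≫ c) * (b ≫ c))
    (h1 : ∀ {T : Over S}, (1 : T ⟶ P) ≫ c = 1) : c = 1 := by
  let f : P.left → Z := fun p => idx ((c ≫ eG.hom).left p)
  have hf : (Set.range f).Finite :=
    (isLocallyConstant_idx.comp_continuous (c ≫ eG.hom).left.continuous).range_finite
  have key : ∀ p, f p = 1 := by
    intro p
    refine hZ _ (isOfFinOrder_iff_pow_eq_one.mpr ?_)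
    let T : Over S := Over.mk (P.left.fromSpecResidueField p ≫ P.hom)
    let x : T ⟶ P := Over.homMk (P.left.fromSpecResidueField p)
    have hsub : Subsingleton ↥T.left := inferInstanceAs (Subsingleton (PrimeSpectrum _))
    let t : ↥T.left := IsLocalRing.closedPoint (P.left.residueField p)
    have hx : x ≫ c ≫ eG.hom = toUnit T ≫ TwC.pt S Z (f p) := eq_pt _ _ fun t' => by
      show idx ((c ≫ eG.hom).left (P.left.fromSpecResidueField p t')) = f p
      rw [Scheme.fromSpecResidueField_apply]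
    have hxn : ∀ n : ℕ, (x ^ n) ≫ c = (x ≫ c) ^ n := fun n => by
      induction n with
      | zero => rw [pow_zero, pow_zero, h1]
      | succ n ih => rw [pow_succ, pow_succ, hc, ih]
    have hmem : ∀ n : ℕ, f p ^ n ∈ Set.range f := fun n => by
      refine ⟨(x ^ n).left t, ?_⟩
      have e : (x ^ n) ≫ c ≫ eG.hom = toUnit T ≫ TwC.pt S Z (f p ^ n) := by
        rw [← Category.assoc, hxn, show x ≫ c = toUnit T ≫ (TwC.pt S Z (f p) ≫ eG.inv) by
          rw [← Category.assoc, ← hx]; simp]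
        rw [← MonObj.comp_pow, pt_pow hG]
        simp
      show idx (((x ^ n) ≫ c ≫ eG.hom).left t) = _
      rw [e, idx_toUnit_pt]
    have hfin : Finite (Set.range f) := hf.to_subtype
    obtain ⟨a, b, hne, hab⟩ := Finite.exists_ne_map_eq_of_infinite (fun n : ℕ => (⟨f p ^ n, hmem n⟩ : Set.range f))
    have hab' : f p ^ a = f p ^ b := congrArg Subtype.val hab
    rcases Nat.lt_or_gt_of_ne hne with h | h
    · exact ⟨b - a, by omega, by rw [pow_sub _ h.le, hab', mul_inv_cancel]⟩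
    · exact ⟨a - b, by omega, by rw [pow_sub _ h.le, hab', mul_inv_cancel]⟩
  have := eq_pt (c ≫ eG.hom) 1 key
  rw [← cancel_mono eG.hom, this, show (1 : P ⟶ G) = toUnit P ≫ (1 : 𝟙_ (Over S) ⟶ G) from (MonObj.comp_one _).symm,
    ← pt_one hG]
  simp

omit hG in
/-- An automorphism of an extension inducing the identity on kernel and quotient is the identity if there are
no homomorphisms from the quotient to the kernel. -/
theorem rigid {P E : Over S} [GrpObj P] [GrpObj E] [IsCommMonObj E] (u : G ⟶ E) (v : E ⟶ P)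
    (hex : NonAbH1.IsExactSeq Scheme.fppfPrecoverage u v)
    (hhom : ∀ c : P ⟶ G, (∀ {T : Over S} (a b : T ⟶ P), (a * b) ≫ c = (a ≫ c) * (b ≫ c)) →
      (∀ {T : Over S}, (1 : T ⟶ P) ≫ c = 1) → c = 1)
    (φ : E ⟶ E) [IsMonHom φ] (hφu : u ≫ φ = u) (hφv : φ ≫ v = v) : φ = 𝟙 E := by
  have := hex.1
  have := hex.2.1
  have hv : LocallySplit Scheme.fppfTopology v :=
    locallySplit_of_isLocallyTrivialFor _ Scheme.fppfPrecoverage le_rfl v hex.2.2.2.2
  let δ : E ⟶ E := φ * (𝟙 E)⁻¹
  have hδ : δ ≫ v = 1 := by simp only [δ, MonObj.mul_comp, GrpObj.inv_comp, hφv, Category.id_comp, mul_inv_cancel]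
  obtain ⟨g, hg⟩ : ∃ g : E ⟶ G, g ≫ u = δ := by
    obtain ⟨g, hg⟩ := exists_lift_kernel u v hex 1 δ (by rw [hδ, MonObj.one_comp])
    exact ⟨g, by rw [hg, _root_.one_mul]⟩
  have hpt : ∀ {T : Over S} (a : T ⟶ E), (a ≫ g) ≫ u = (a ≫ φ) * a⁻¹ := fun a => by
    rw [Category.assoc, hg]
    simp only [δ, MonObj.comp_mul, GrpObj.comp_inv, Category.comp_id]
  have hgmul : ∀ {T : Over S} (a b : T ⟶ E), (a * b) ≫ g = (a ≫ g) * (b ≫ g) := fun a b => by
    refine kernel_injective u v hex _ _ ?_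
    rw [hpt (a * b), MonObj.mul_comp _ _ φ, MonObj.mul_comp _ _ u, hpt a, hpt b, _root_.mul_inv_rev,
      ExtCentral.mul_comm_pts b⁻¹ a⁻¹, _root_.mul_assoc (a ≫ φ), ← _root_.mul_assoc (b ≫ φ) a⁻¹,
      ExtCentral.mul_comm_pts (b ≫ φ) a⁻¹]
    group
  have hug : ∀ {T : Over S} (h : T ⟶ G), (h ≫ u) ≫ g = 1 := fun h => by
    refine kernel_injective u v hex _ _ ?_
    rw [MonObj.one_comp, hpt, Category.assoc, hφu, mul_inv_cancel]
  obtain ⟨c, hc⟩ := exists_desc hv g (fun T w w' hw => by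
    obtain ⟨h, hh⟩ := exists_lift_kernel u v hex _ _ hw
    rw [hh, hgmul, hug, _root_.mul_one])
  have hone : ∀ {T : Over S}, (1 : T ⟶ P) ≫ c = 1 := fun {T} => by
    rw [← MonObj.one_comp v, Category.assoc, hc]
    refine kernel_injective u v hex _ _ ?_
    rw [hpt, MonObj.one_comp, MonObj.one_comp]
    group
  have hc2 : (fst P P * snd P P) ≫ c = (fst P P ≫ c) * (snd P P ≫ c) := by
    refine epi_of_local (locallySplit_tensor _ hv hv) ?_
    simp only [MonObj.comp_mul, ← Category.assoc, tensorHom_fst, tensorHom_snd]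
    rw [← MonObj.mul_comp, Category.assoc, hc]
    simp only [Category.assoc]
    rw [hc, hgmul]
  have hmul : ∀ {T : Over S} (a b : T ⟶ P), (a * b) ≫ c = (a ≫ c) * (b ≫ c) := fun a b => by
    simpa [MonObj.comp_mul, ← Category.assoc] using congrArg (lift a b ≫ ·) hc2
  have hg1 : g = 1 := by rw [← hc, hhom c hmul hone, MonObj.comp_one]
  have h3 : δ = 1 := by rw [← hg, hg1, MonObj.one_comp]
  exact mul_inv_eq_one.1 h3

end Groth.Agent.Lib.ConstRigid
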